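/-
Modules on a scheme cut into clopen pieces.
-/
import Groth.Agent.W7Slope.H1Quot
import Groth.Agent.CohFinite.PushLinear
import Groth.Agent.W7Hull.AmpleSurj

set_option autoImplicit false
set_option linter.style.haveILetI false
set_option linter.unusedSectionVars false
set_option backward.isDefEq.respectTransparency false
set_option backward.isDefEq.respectTransparency.types false
set_option maxHeartbeats 1000000

universe u

open CategoryTheory CategoryTheory.Limits AlgebraicGeometry TopologicalSpace Opposite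
open Groth.Agent.QC (res app_res res_res res_self section_eq_of_locally abSheaf)

noncomputable section

namespace Groth.Agent.CurveComps

variable {X : Scheme.{u}}

/-- Extension by zero along a clopen decomposition. -/
theorem exists_ext (M : X.Modules) {U V : X.Opens} (hd : U ⊓ V = ⊥) (hc : U ⊔ V = ⊤) (W : X.Opens)
    (s : Γ(M, W ⊓ U)) : ∃ t : Γ(M, W), res M inf_le_left t = s ∧ res M (inf_le_left : W ⊓ V ≤ W) t = 0 := by
  let O : ULift.{u} Bool → Opens X := fun b => if b.down then W ⊓ U else W ⊓ V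
  let sf : ∀ b, Γ(M, O b) := fun b =>
    match b with
    | ⟨true⟩ => s
    | ⟨false⟩ => (0 : Γ(M, W ⊓ V))
  have hcov : W ≤ iSup O := fun x hx => by
    have h : x ∈ U ⊔ V := hc ▸ trivial
    rcases h with h | h
    · exact TopologicalSpace.Opens.mem_iSup.2 ⟨⟨true⟩, hx, h⟩
    · exact TopologicalSpace.Opens.mem_iSup.2 ⟨⟨false⟩, hx, h⟩
  have hle : ∀ b, O b ≤ W := by
    rintro ⟨_ | _⟩ <;> exact inf_le_left
  have hUV : ∀ x, x ∈ U → x ∈ V → False := fun x hU hV =>
    (hd.le (⟨hU, hV⟩ : x ∈ U ⊓ V) : x ∈ (⊥ : X.Opens)).elim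
  obtain ⟨t, ht, -⟩ := TopCat.Sheaf.existsUnique_gluing' (abSheaf M) O W (fun b => homOfLE (hle b)) hcov sf (by
    rintro ⟨_ | _⟩ ⟨_ | _⟩
    · rfl
    · exact section_eq_of_locally fun x hx => (hUV x hx.2.2 hx.1.2).elim
    · exact section_eq_of_locally fun x hx => (hUV x hx.1.2 hx.2.2).elim
    · rfl)
  exact ⟨t, ht ⟨true⟩, ht ⟨false⟩⟩

/-- The direct image of a restriction. -/
abbrev piece (G : X.Modules) (U : X.Opens) : X.Modules :=
  (Scheme.Modules.pushforward U.ι).obj (G.restrict U.ι)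

/-- The restriction map. -/
abbrev toPiece (G : X.Modules) (U : X.Opens) : G ⟶ piece G U :=
  (Scheme.Modules.restrictAdjunction U.ι).unit.app G

theorem image_preimage (U W : X.Opens) : U.ι ''ᵁ (U.ι ⁻¹ᵁ W) = W ⊓ U := by
  ext x
  constructor
  · rintro ⟨y, hy, rfl⟩
    exact ⟨hy, y.2⟩
  · rintro ⟨hW, hU⟩
    exact ⟨⟨x, hU⟩, hW, rfl⟩

variable {J : Type} [Fintype J] (U : J → X.Opens)

/-- A module is the sum of its pieces. -/
theorem isIso_lift (hd : ∀ i j, i ≠ j → U i ⊓ U j = ⊥) (hc : ⨆ j, U j = ⊤) (G : X.Modules) :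
    IsIso (biproduct.lift fun j => toPiece G (U j)) := by
  classical
  let φ := biproduct.lift fun j => toPiece G (U j)
  haveI : Mono φ := by
    rw [Groth.Agent.QC.mono_iff_app_injective]
    intro W
    refine (injective_iff_map_eq_zero _).2 fun t ht => section_eq_of_locally fun x hx => ?_
    obtain ⟨j, hj⟩ := TopologicalSpace.Opens.mem_iSup.1 (show x ∈ ⨆ j, U j from hc ▸ trivial)
    refine ⟨(U j).ι ''ᵁ ((U j).ι ⁻¹ᵁ W), (U j).ι.image_preimage_le W, ?_, ?_⟩
    · rw [image_preimage]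
      exact ⟨hx, hj⟩
    · have h : (φ ≫ biproduct.π (fun j => piece G (U j)) j).app W t = 0 := by
        show (biproduct.π (fun j => piece G (U j)) j).app W (φ.app W t) = 0
        rw [ht, map_zero]
      rw [biproduct.lift_π] at h
      rw [map_zero]
      exact h
  haveI : Epi φ := by
    refine Preadditive.epi_of_cancel_zero _ fun {N} g hg => biproduct.hom_ext' _ _ fun j => ?_
    rw [comp_zero]
    refine Scheme.Modules.hom_ext _ _ fun W => ?_
    ext s
    let V : X.Opens := ⨆ i ∈ ({j}ᶜ : Set J), U i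
    have hdV : U j ⊓ V = ⊥ := by
      refine eq_bot_iff.2 fun x hx => ?_
      obtain ⟨i, hi⟩ := TopologicalSpace.Opens.mem_iSup.1 hx.2
      obtain ⟨hij, hi⟩ := TopologicalSpace.Opens.mem_iSup.1 hi
      exact (hd j i (Ne.symm hij)).le ⟨hx.1, hi⟩
    have hcV : U j ⊔ V = ⊤ := by
      refine eq_top_iff.2 fun x _ => ?_
      obtain ⟨i, hi⟩ := TopologicalSpace.Opens.mem_iSup.1 (show x ∈ ⨆ j, U j from hc ▸ trivial)
      by_cases h : i = j
      · exact Or.inl (h ▸ hi)
      · exact Or.inr (TopologicalSpace.Opens.mem_iSup.2 ⟨i, TopologicalSpace.Opens.mem_iSup.2 ⟨h, hi⟩⟩)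
    have hjW := image_preimage (U j) W
    obtain ⟨t, ht, ht'⟩ := exists_ext G hdV hcV W (res G hjW.ge (show Γ(G, (U j).ι ''ᵁ ((U j).ι ⁻¹ᵁ W)) from s))
    have hs : (toPiece G (U j)).app W t = s := by
      show res G ((U j).ι.image_preimage_le W) t = s
      rw [← res_res G hjW.le inf_le_left, ht, res_res, res_self]
    have h0 : ∀ i, i ≠ j → (toPiece G (U i)).app W t = 0 := fun i hi => by
      show res G ((U i).ι.image_preimage_le W) t = 0
      have hle : (U i).ι ''ᵁ ((U i).ι ⁻¹ᵁ W) ≤ W ⊓ V := by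
        rw [image_preimage]
        exact fun x hx => ⟨hx.1, TopologicalSpace.Opens.mem_iSup.2 ⟨i, TopologicalSpace.Opens.mem_iSup.2 ⟨hi, hx.2⟩⟩⟩
      rw [← res_res G hle inf_le_left, ht', map_zero]
    have hg' := congr($(hg).app W t)
    rw [show φ = biproduct.lift (fun j => toPiece G (U j)) from rfl, biproduct.lift_eq, Preadditive.sum_comp] at hg'
    rw [show (∑ i, ((toPiece G (U i) ≫ biproduct.ι (fun j => piece G (U j)) i) ≫ g)) =
      (toPiece G (U j) ≫ biproduct.ι (fun j => piece G (U j)) j) ≫ g + ∑ i ∈ Finset.univ.erase j, ((toPiece G (U i) ≫ biproduct.ι (fun j => piece G (U j)) i) ≫ g)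
      from (Finset.add_sum_erase _ _ (Finset.mem_univ j)).symm] at hg'
    refine Eq.trans ?_ hg'
    show g.app W ((biproduct.ι (fun j => piece G (U j)) j).app W s) = g.app W ((biproduct.ι (fun j => piece G (U j)) j).app W ((toPiece G (U j)).app W t)) +
      (∑ i ∈ Finset.univ.erase j, ((toPiece G (U i) ≫ biproduct.ι (fun j => piece G (U j)) i) ≫ g)).app W t
    rw [hs, left_eq_add]
    let ev : (G ⟶ N) →+ Γ(N, W) := AddMonoidHom.mk' (fun ψ => ψ.app W t) fun _ _ => rfl
    change ev (∑ i ∈ Finset.univ.erase j, ((toPiece G (U i) ≫ biproduct.ι (fun j => piece G (U j)) i) ≫ g)) = 0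
    rw [map_sum]
    refine Finset.sum_eq_zero fun i hi => ?_
    show g.app W ((biproduct.ι (fun j => piece G (U j)) i).app W ((toPiece G (U i)).app W t)) = 0
    rw [h0 i (Finset.mem_erase.1 hi).1, map_zero, map_zero]
  exact isIso_of_mono_of_epi φ

variable (k : Type u) [Field k] [X.Over (Spec (CommRingCat.of k))]

include k in
/-- Vanishing on a sum. -/
theorem subsingleton_hh_biproduct (B : J → X.Modules) (q : ℕ) (h : ∀ j, Subsingleton (Coh.HH X (B j) q)) :
    Subsingleton (Coh.HH X (⨁ B) q) := by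
  refine subsingleton_of_forall_eq 0 fun x => ?_
  let F : ((⨁ B) ⟶ (⨁ B)) →+ Coh.HH X (⨁ B) q :=
    AddMonoidHom.mk' (fun φ => CohFinite.hhMap k φ q x) fun φ ψ => W7Slope.hhMap_add φ ψ q x
  have hx : F (𝟙 _) = x := CohFinite.hhMap_id (A := k) (⨁ B) q x
  rw [← hx, ← biproduct.total, map_sum]
  refine Finset.sum_eq_zero fun j _ => ?_
  show CohFinite.hhMap k (biproduct.π B j ≫ biproduct.ι B j) q x = 0
  rw [CohFinite.hhMap_comp, (h j).elim (CohFinite.hhMap k (biproduct.π B j) q x) 0, map_zero]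

include k in
/-- Vanishing is checked on the pieces. -/
theorem subsingleton_hh_of_pieces (hd : ∀ i j, i ≠ j → U i ⊓ U j = ⊥) (hc : ⨆ j, U j = ⊤) (G : X.Modules) (q : ℕ)
    (h : ∀ j, Subsingleton (Coh.HH X (piece G (U j)) q)) : Subsingleton (Coh.HH X G q) := by
  haveI := isIso_lift U hd hc G
  have := subsingleton_hh_biproduct k _ q h
  exact W7Hull.hh_subsingleton_of_retract (inv (biproduct.lift fun j => toPiece G (U j))) _ (IsIso.hom_inv_id _) q this

/-- Vanishing on morphisms is checked on the pieces with global sections. -/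
theorem hom_eq_zero_of_global (hd : ∀ i j, i ≠ j → U i ⊓ U j = ⊥) (hc : ⨆ j, U j = ⊤) {G N : X.Modules}
    (g : G ⟶ N) (hg : ∀ t : Γ(G, ⊤), g.app ⊤ t = 0)
    (hgen : ∀ (j : J) (N' : (U j : Scheme.{u}).Modules) (g' : G.restrict (U j).ι ⟶ N'),
      (∀ s : Γ(G.restrict (U j).ι, ⊤), g'.app ⊤ s = 0) → g' = 0) : g = 0 := by
  classical
  refine Scheme.Modules.hom_ext _ _ fun W => ?_
  ext t
  refine section_eq_of_locally fun x hx => ?_
  obtain ⟨j, hj⟩ := TopologicalSpace.Opens.mem_iSup.1 (show x ∈ ⨆ j, U j from hc ▸ trivial)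
  let ι := (U j).ι
  have h0 : (Scheme.Modules.restrictFunctor ι).map g = 0 := by
    refine hgen j _ _ fun s => ?_
    let V : X.Opens := ⨆ i ∈ ({j}ᶜ : Set J), U i
    have hdV : U j ⊓ V = ⊥ := by
      refine eq_bot_iff.2 fun x hx => ?_
      obtain ⟨i, hi⟩ := TopologicalSpace.Opens.mem_iSup.1 hx.2
      obtain ⟨hij, hi⟩ := TopologicalSpace.Opens.mem_iSup.1 hi
      exact (hd j i (Ne.symm hij)).le ⟨hx.1, hi⟩
    have hcV : U j ⊔ V = ⊤ := by
      refine eq_top_iff.2 fun x _ => ?_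
      obtain ⟨i, hi⟩ := TopologicalSpace.Opens.mem_iSup.1 (show x ∈ ⨆ j, U j from hc ▸ trivial)
      by_cases h : i = j
      · exact Or.inl (h ▸ hi)
      · exact Or.inr (TopologicalSpace.Opens.mem_iSup.2 ⟨i, TopologicalSpace.Opens.mem_iSup.2 ⟨h, hi⟩⟩)
    have hj' : ι ''ᵁ ⊤ = ⊤ ⊓ U j := by rw [top_inf_eq]; exact (U j).ι_image_top
    obtain ⟨t₀, ht₀, -⟩ := exists_ext G hdV hcV ⊤ (res G hj'.ge (show Γ(G, ι ''ᵁ ⊤) from s))
    have hs : res G (le_top : ι ''ᵁ ⊤ ≤ ⊤) t₀ = s := by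
      rw [← res_res G hj'.le inf_le_left, ht₀, res_res, res_self]
    show g.app (ι ''ᵁ ⊤) (show Γ(G, ι ''ᵁ ⊤) from s) = 0
    rw [← hs, ← app_res, hg, map_zero]
  refine ⟨ι ''ᵁ (ι ⁻¹ᵁ W), ι.image_preimage_le W, ?_, ?_⟩
  · rw [image_preimage]
    exact ⟨hx, hj⟩
  · rw [app_res]
    exact congr($(h0).app (ι ⁻¹ᵁ W) _).trans (map_zero _).symm

end Groth.Agent.CurveComps

end
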