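/-
Quotient slopes and boundedness on curves.
-/
import Groth.Agent.CurveComps.Clopen
import Groth.Agent.W7Slope.GlobGenBundle
import Groth.Agent.W7Slope.Twist
import Groth.Agent.CurveRR.Multi2
import Groth.Agent.EulerMult.Basic
import Groth.Agent.ResDesc.Main
import Groth.Agent.TMul.RelAmple
import Groth.Agent.CompLib.Basic
import Groth.Agent.S19175

set_option autoImplicit false
set_option linter.style.haveILetI false
set_option linter.unusedSectionVars false
set_option backward.isDefEq.respectTransparency false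
set_option backward.isDefEq.respectTransparency.types false
set_option maxHeartbeats 1000000

universe u

open CategoryTheory CategoryTheory.Limits AlgebraicGeometry TopologicalSpace
open Groth.Agent.CohFinite (tmap hhMap)
open Groth.Agent.QC (res app_res)

noncomputable section

namespace Groth.Agent.CurveComps

/-- Maps out of a globally generated module vanishing on global sections vanish. -/
theorem eq_zero_of_gg {X : Scheme.{u}} {G N : X.Modules} (hG : Curv2.IsGloballyGenerated G) (g : G ⟶ N)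
    (h : ∀ t : Γ(G, ⊤), g.app ⊤ t = 0) : g = 0 := by
  obtain ⟨ι, p', hp'⟩ := hG
  let p : (∐ fun _ : ι => Coh.structureModule X) ⟶ G := p'
  haveI : Epi p := hp'
  refine (cancel_epi p).1 ?_
  rw [comp_zero]
  refine Sigma.hom_ext _ _ fun i => TMul.hom_ext_val ?_
  show g.app ⊤ (p.app ⊤ ((Sigma.ι (fun _ : ι => Coh.structureModule X) i).app ⊤ (1 : Γ(X, ⊤)))) = _
  rw [h, comp_zero]
  rfl

/-- Global sections detect global generation. -/
theorem gg_of_kill {X : Scheme.{u}} {G : X.Modules}
    (h : ∀ (N : X.Modules) (g : G ⟶ N), (∀ t : Γ(G, ⊤), g.app ⊤ t = 0) → g = 0) :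
    Curv2.IsGloballyGenerated G := by
  let ev : (∐ fun _ : Γ(G, ⊤) => Coh.structureModule X) ⟶ G := Sigma.desc fun t => TMul.homOf t
  refine ⟨Γ(G, ⊤), ev, Preadditive.epi_of_cancel_zero (f := ev) fun {N} g hg => h N g fun t => ?_⟩
  have h0 : TMul.homOf t ≫ g = 0 := by
    rw [show TMul.homOf t = Sigma.ι (fun _ : Γ(G, ⊤) => Coh.structureModule X) t ≫ ev from by simp [ev],
      Category.assoc, hg, comp_zero]
  have h1 := congrArg (fun φ : Coh.structureModule X ⟶ N => φ.app ⊤ (1 : Γ(X, ⊤))) h0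
  refine Eq.trans ?_ (h1.trans rfl)
  show g.app ⊤ t = g.app ⊤ (TMul.val (TMul.homOf t) ⊤)
  rw [TMul.val_homOf, Groth.Agent.QC.res_self]

variable (k : Type u) [Field k]

/-- Tensoring with an invertible module keeps epimorphisms. -/
theorem epi_tmap {X : Scheme.{u}} {F G L : X.Modules} (hL : PicF.IsInvertible L) (p : F ⟶ G) [Epi p] :
    Epi (tmap p L) :=
  (CohFinite.shortExact_tmap hL (S := ShortComplex.mk (kernel.ι p) p (kernel.condition p))
    { exact := ShortComplex.exact_of_f_is_kernel _ (kernelIsKernel p) }).epi_g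

/-- Vanishing and generation from a bound on invertible quotients. -/
theorem vanish_of_bound [IsAlgClosed k] {Z : Scheme.{u}} [Z.Over (Spec (CommRingCat.of k))]
    [IsProper (Z ↘ Spec (CommRingCat.of k))] [IsIntegral Z] (hd : topologicalKrullDim Z = 1)
    (hX : W7Slope.RegCurve Z) {E : Z.Modules} {r : ℕ} (hE : FlatMod.IsFinLocFreeOfRank r E) {M : Z.Modules}
    (hM : PicF.IsInvertible M) {C : ℚ}
    (hC : ∀ (Q : Z.Modules) (p : E ⟶ Q), Epi p → PicF.IsInvertible Q → C ≤ (Curv2.deg k Z Q 1 : ℚ))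
    (h : 2 * (Curv2.genus k Z : ℚ) - 1 < C + (Curv2.deg k Z M 1 : ℚ)) :
    Subsingleton (Coh.HH Z (CohB1.tensorMod E M) 1) ∧ Curv2.IsGloballyGenerated (CohB1.tensorMod E M) := by
  haveI := CurveRR.isNoetherian_of_proper k Z
  have key : ∀ (M' : Z.Modules), PicF.IsInvertible M' → (Curv2.deg k Z M 1 : ℚ) - 1 ≤ (Curv2.deg k Z M' 1 : ℚ) →
      Subsingleton (Coh.HH Z (CohB1.tensorMod E M') 1) := by
    intro M' hM' hle
    by_contra hn
    obtain ⟨Q, K, p, i, n, hp, -, -, hQ, -, -, hQ1, -⟩ :=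
      W7Slope.exists_invertible_quotient k hd hX (W7Slope.rank_tensor_inv hE hM') hn
    obtain ⟨M'', hM'', ⟨ε⟩⟩ := SymAlg.exists_inverse hM'
    have hQ2 := TMul.isInvertible_tensorMod hQ hM''
    haveI := hp
    haveI := epi_tmap hM'' p
    let q : E ⟶ CohB1.tensorMod Q M'' := ((TMul.assocIso E M' M'') ≪≫ PicGrp.tensorModIso (Iso.refl E) ε ≪≫
      TMul.commIso E _ ≪≫ TMul.leftUnitIso E).inv ≫ tmap p M''
    have h1 := hC _ q (epi_comp _ _) hQ2
    rw [CurveRR.deg_tensor_inv (k := k) hd.le hQ hM''] at h1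
    have h2 : Curv2.deg k Z M' 1 + Curv2.deg k Z M'' 1 = 0 := by
      rw [← CurveRR.deg_tensor_inv (k := k) hd.le hM' hM'', W7Slope.deg_iso (k := k) ε 1]
      exact CurveRR.deg_structure
    have h3 : Curv2.deg k Z Q 1 < 2 * (Curv2.genus k Z : ℤ) - 1 := by
      by_contra h4
      exact hQ1 (CurveRR.subsingleton_h1 (k := k) hd.le (CurveRR.h0_structure k Z) hQ (not_lt.1 h4))
    have h3' : (Curv2.deg k Z Q 1 : ℚ) ≤ 2 * (Curv2.genus k Z : ℚ) - 2 := by
      exact_mod_cast (show Curv2.deg k Z Q 1 ≤ 2 * (Curv2.genus k Z : ℤ) - 2 by omega)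
    have h2' : (Curv2.deg k Z M' 1 : ℚ) + (Curv2.deg k Z M'' 1 : ℚ) = 0 := by exact_mod_cast h2
    push_cast at h1
    linarith
  refine ⟨key M hM (by linarith), W7Slope.isGloballyGenerated_of_h1 k hd (W7Slope.rank_tensor_inv hE hM) fun P hP => ?_⟩
  let I := ClSub.idealMod (Scheme.IdealSheafData.vanishingIdeal ⟨{P}, hP⟩)
  have hI : PicF.IsInvertible I :=
    CurveRR.isInvertible_pointIdeal hd.le hP (CurveRR.genericPoint_ne_of_closed (k := k) hd hP) (hX.reg P)
  have hdI : Curv2.deg k Z I 1 = -1 := by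
    have h := CurveRR.euler_ideal_tensor (k := k) (TMul.isInvertible_structureModule (X := Z))
      (Scheme.IdealSheafData.vanishingIdeal ⟨{P}, hP⟩) (CurveRR.point_dim hP)
    rw [CurveRR.euler_eq_of_iso (TMul.commIso _ _), CurveRR.euler_eq_of_iso (TMul.leftUnitIso _),
      CurveRR.h0_quotMod_point hP] at h
    simp only [Curv2.deg]
    push_cast at h ⊢
    linarith
  have h1 := key (CohB1.tensorMod M I) (TMul.isInvertible_tensorMod hM hI) (by
    rw [CurveRR.deg_tensor_inv (k := k) hd.le hM hI, hdI]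
    push_cast
    linarith)
  let e : CohB1.tensorMod E (CohB1.tensorMod M I) ≅ CohB1.tensorMod I (CohB1.tensorMod E M) :=
    (TMul.assocIso E M I).symm ≪≫ TMul.commIso _ _
  exact W7Hull.hh_subsingleton_of_retract e.hom e.inv e.inv_hom_id 1 h1

variable {X : Scheme.{u}} [X.Over (Spec (CommRingCat.of k))] [IsProper (X ↘ Spec (CommRingCat.of k))]

/-- The curve degree of a power on components. -/
theorem compSum_tensorPow [Fintype (irreducibleComponents (X : Type u))] (hdim : topologicalKrullDim X ≤ 1)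
    {L : X.Modules} (hL : PicF.IsInvertible L) (n : ℕ) (F : X.Modules) :
    CurveRR.Multi.compSum k 1 (CohB1.tensorPow L n) F = n * CurveRR.Multi.compSum k 1 L F := by
  rw [CurveRR.Multi.compSum, CurveRR.Multi.compSum, Finset.mul_sum]
  refine Finset.sum_congr rfl fun Z _ => ?_
  split_ifs with hd
  · rw [← mul_assoc, mul_comm (n : ℤ), mul_assoc]
    congr 1
    let I := Scheme.IdealSheafData.vanishingIdeal (Devissage.Zc Z.2.1.genericPoint)
    letI : I.subscheme.Over (Spec (CommRingCat.of k)) := ⟨I.subschemeι ≫ (X ↘ Spec (CommRingCat.of k))⟩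
    haveI : IsProper (I.subscheme ↘ Spec (CommRingCat.of k)) :=
      inferInstanceAs (IsProper (I.subschemeι ≫ (X ↘ Spec (CommRingCat.of k))))
    haveI : IsIntegral I.subscheme := Devissage.Zi_isIntegral _
    have hd1 : topologicalKrullDim I.subscheme ≤ 1 :=
      (I.subschemeι.isClosedEmbedding.isEmbedding.topologicalKrullDim_le).trans hdim
    obtain ⟨e⟩ := Groth.Agent.S19175.nonempty_pullback_pow I.subschemeι L n
    show Curv2.deg k I.subscheme ((Scheme.Modules.pullback I.subschemeι).obj (CohB1.tensorPow L n)) 1 =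
      n * Curv2.deg k I.subscheme ((Scheme.Modules.pullback I.subschemeι).obj L) 1
    rw [W7Slope.deg_iso (k := k) e 1]
    exact CurveRR.deg_tensorPow hd1 (PicLoc.isInvertible_pullback _ hL) n
  · rw [mul_zero]

/-- `χ(F ⊗ L^n)` is linear in `n`. -/
theorem euler_twist (hdim : topologicalKrullDim X ≤ 1) {L : X.Modules} (hL : PicF.IsInvertible L) (n : ℕ)
    (F : X.Modules) (hF : Coh.IsCoh F) :
    Curv2.euler k X (CohB1.tensorMod F (CohB1.tensorPow L n)) =
      Curv2.euler k X F + n * (Curv2.euler k X (CohB1.tensorMod F L) - Curv2.euler k X F) := by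
  haveI := CurveRR.isNoetherian_of_proper k X
  haveI : Fintype (irreducibleComponents (X : Type u)) :=
    (NoetherianSpace.finite_irreducibleComponents (α := X)).fintype
  have h1 := CurveRR.Multi.D_eq_compSum k 1 (CohB1.tensorPow L n) hdim
    (CurveRR.isFinLocFreeOfRank_one (TMul.isInvertible_tensorPow hL n)) F hF
  have h2 := CurveRR.Multi.D_eq_compSum k 1 L hdim (CurveRR.isFinLocFreeOfRank_one hL) F hF
  rw [compSum_tensorPow k hdim hL n F, ← h2, CurveRR.Multi.D, CurveRR.Multi.D] at h1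
  push_cast at h1
  linear_combination h1

/-- Boundedness implies a lower bound for the quotients. -/
theorem quotient_bound (hdim : topologicalKrullDim X ≤ 1) {L : X.Modules} (hL : PicF.IsInvertible L) (n : ℕ)
    {E Q : X.Modules} (hQ : Coh.IsCoh Q) (p : E ⟶ Q) [Epi p]
    (h1 : Subsingleton (Coh.HH X (CohB1.tensorMod E (CohB1.tensorPow L n)) 1))
    (hα : 0 < Curv2.euler k X (CohB1.tensorMod Q L) - Curv2.euler k X Q) :
    -(n : ℚ) ≤ (Curv2.euler k X Q : ℚ) / ((Curv2.euler k X (CohB1.tensorMod Q L) - Curv2.euler k X Q : ℤ) : ℚ) := by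
  have hS := CohFinite.shortExact_tmap (TMul.isInvertible_tensorPow hL n)
    (S := ShortComplex.mk (kernel.ι p) p (kernel.condition p))
    { exact := ShortComplex.exact_of_f_is_kernel _ (kernelIsKernel p) }
  have hQ1 : Subsingleton (Coh.HH X (CohB1.tensorMod Q (CohB1.tensorPow L n)) 1) :=
    (CurveRR.surjective_h1 (k := k) hdim hS).subsingleton
  have h0 : 0 ≤ Curv2.euler k X (CohB1.tensorMod Q (CohB1.tensorPow L n)) := by
    haveI := hQ1
    rw [CurveRR.euler_eq (k := k) hdim, show CurveRR.h k (CohB1.tensorMod Q (CohB1.tensorPow L n)) 1 = 0 from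
      Module.finrank_zero_of_subsingleton]
    simp
  rw [euler_twist k hdim hL n Q hQ] at h0
  set α := Curv2.euler k X (CohB1.tensorMod Q L) - Curv2.euler k X Q
  rw [le_div_iff₀ (by exact_mod_cast hα)]
  have : (0 : ℚ) ≤ (Curv2.euler k X Q : ℚ) + (n : ℚ) * (α : ℚ) := by exact_mod_cast h0
  linarith

end Groth.Agent.CurveComps

end
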