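/-
Boundedness of bundles on smooth, possibly disconnected, curves.
-/
import Groth.Agent.CurveComps.Bound

set_option autoImplicit false
set_option linter.style.haveILetI false
set_option linter.unusedSectionVars false
set_option backward.isDefEq.respectTransparency false
set_option backward.isDefEq.respectTransparency.types false
set_option maxHeartbeats 1000000

universe u

open CategoryTheory CategoryTheory.Limits AlgebraicGeometry TopologicalSpace
open Groth.Agent.CohFinite (tmap hhMap)
open Groth.Agent.QC (res app_res)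

noncomputable section

namespace Groth.Agent.CurveComps

variable (k : Type u) [Field k] {X : Scheme.{u}} [X.Over (Spec (CommRingCat.of k))]
  [IsProper (X ↘ Spec (CommRingCat.of k))] [Smooth (X ↘ Spec (CommRingCat.of k))]

include k in
/-- The components of a smooth scheme. -/
theorem exists_components : ∃ (N : ℕ) (U : Fin N → X.Opens),
    (∀ i j, i ≠ j → U i ⊓ U j = ⊥) ∧ (⨆ j, U j = ⊤) ∧
    ∀ j, IsClosed (U j : Set X) ∧ IsIntegral (U j : Scheme.{u}) := by
  haveI := CurveRR.isNoetherian_of_proper k X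
  haveI : IsReduced X := Groth.Agent.SmoothRed.isReduced_of_smooth_scheme (X ↘ Spec (CommRingCat.of k))
  have hfin := NoetherianSpace.finite_irreducibleComponents (α := X)
  haveI : Fintype (irreducibleComponents (X : Type u)) := hfin.fintype
  have hpd := (CompLib.pairwiseDisjoint_iff X).2 fun x : X => by
    haveI := SmLocalST.isRegularLocalRing_stalk_of_smooth_field (X ↘ Spec (CommRingCat.of k)) x
    haveI : IsDomain (X.presheaf.stalk x) := Groth.Agent.S0558.result _
    rw [nilradical_eq_zero]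
    exact Ideal.isPrime_bot
  let e := (Fintype.equivFin (irreducibleComponents (X : Type u))).symm
  have hopen : ∀ Z : irreducibleComponents (X : Type u), IsOpen (Z.1 : Set X) := fun Z => by
    have heq : (Z.1 : Set X) = (⋃ W ∈ irreducibleComponents (X : Type u) \ {Z.1}, W)ᶜ := by
      ext x
      simp only [Set.mem_compl_iff, Set.mem_iUnion, not_exists, Set.mem_sdiff, Set.mem_singleton_iff]
      refine ⟨fun hx W hW hxW => Set.disjoint_left.1 (hpd hW.1 Z.2 hW.2) hxW hx, fun h => ?_⟩
      by_contra hx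
      refine h (irreducibleComponent x) ⟨irreducibleComponent_mem_irreducibleComponents x, ?_⟩ mem_irreducibleComponent
      exact fun he => hx (he ▸ mem_irreducibleComponent)
    rw [heq]
    exact ((hfin.subset Set.sdiff_subset).isClosed_biUnion fun W hW =>
      isClosed_of_mem_irreducibleComponents _ hW.1).isOpen_compl
  refine ⟨_, fun j => ⟨(e j).1, hopen (e j)⟩, fun i j hij => eq_bot_iff.2 fun x hx => ?_, ?_, fun j => ⟨?_, ?_⟩⟩
  · exact (Set.disjoint_left.1 (hpd (e i).2 (e j).2 fun h => hij (e.injective (Subtype.ext h))) hx.1 hx.2).elim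
  · refine eq_top_iff.2 fun x _ => TopologicalSpace.Opens.mem_iSup.2
      ⟨e.symm ⟨_, irreducibleComponent_mem_irreducibleComponents x⟩, ?_⟩
    show x ∈ (e (e.symm _)).1
    rw [e.apply_symm_apply]
    exact mem_irreducibleComponent
  · exact isClosed_of_mem_irreducibleComponents _ (e j).2
  · let U : X.Opens := ⟨(e j).1, hopen (e j)⟩
    haveI : IrreducibleSpace (U : Scheme.{u}) :=
      { toPreirreducibleSpace := Subtype.preirreducibleSpace (e j).2.1.2
        toNonempty := (e j).2.1.1.to_subtype }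
    exact isIntegral_of_irreducibleSpace_of_isReduced _

/-- An integral noetherian scheme of dimension at most zero is a point. -/
theorem subsingleton_of_dim_le_zero {Z : Scheme.{u}} [IsIntegral Z] [NoetherianSpace Z]
    (hd : topologicalKrullDim Z ≤ 0) : Subsingleton Z := ⟨fun a b => by
  have h : ∀ x : Z, x = genericPoint Z := fun x =>
    ((genericPoint_spec Z).mem_open_set_iff (Groth.Agent.TopDim.isOpen_singleton_of_dim_le_zero hd x)).2
      ⟨x, trivial, rfl⟩ |> Eq.symm
  rw [h a, h b]⟩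

variable [IsAlgClosed k]

/-- A lower bound on the slopes of quotients bounds the family. -/
theorem bounded_of_bound (hdim : topologicalKrullDim X = 1) {L : X.Modules} (hL : CohB1.IsAmple L) (r : ℕ)
    (C : ℚ) :
    ∃ n₀ : ℕ, ∀ n : ℕ, n₀ ≤ n → ∀ E : X.Modules, FlatMod.IsFinLocFreeOfRank r E →
      (∀ (Q : X.Modules) (p : E ⟶ Q), Epi p → FlatMod.IsFinLocFree Q →
        0 < Curv2.euler k X (CohB1.tensorMod Q L) - Curv2.euler k X Q →
        C ≤ (Curv2.euler k X Q : ℚ) / ((Curv2.euler k X (CohB1.tensorMod Q L) - Curv2.euler k X Q : ℤ) : ℚ)) →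
      Subsingleton (Coh.HH X (CohB1.tensorMod E (CohB1.tensorPow L n)) 1) ∧
      Curv2.IsGloballyGenerated (CohB1.tensorMod E (CohB1.tensorPow L n)) := by
  haveI := CurveRR.isNoetherian_of_proper k X
  obtain ⟨N, U, hdj, hc, hU⟩ := exists_components k (X := X)
  -- the bound on each component
  have key : ∀ j : Fin N, ∃ n₀ : ℕ, ∀ n : ℕ, n₀ ≤ n → ∀ E : X.Modules, FlatMod.IsFinLocFreeOfRank r E →
      (∀ (Q : X.Modules) (p : E ⟶ Q), Epi p → FlatMod.IsFinLocFree Q →
        0 < Curv2.euler k X (CohB1.tensorMod Q L) - Curv2.euler k X Q →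
        C ≤ (Curv2.euler k X Q : ℚ) / ((Curv2.euler k X (CohB1.tensorMod Q L) - Curv2.euler k X Q : ℤ) : ℚ)) →
      Subsingleton (Coh.HH X (piece (CohB1.tensorMod E (CohB1.tensorPow L n)) (U j)) 1) ∧
      ∀ (N' : (U j : Scheme.{u}).Modules)
        (g : (CohB1.tensorMod E (CohB1.tensorPow L n)).restrict (U j).ι ⟶ N'),
        (∀ s, g.app ⊤ s = 0) → g = 0 := by
    intro j
    let Z : Scheme.{u} := U j
    let ι : Z ⟶ X := (U j).ι
    haveI : IsIntegral Z := (hU j).2
    haveI : IsOpenImmersion ι := inferInstanceAs (IsOpenImmersion (U j).ι)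
    haveI : IsClosedImmersion ι := IsClosedImmersion.of_isPreimmersion (U j).ι (by
      rw [Scheme.Opens.range_ι]; exact (hU j).1)
    haveI : LocallyOfFinitePresentation ι := LocallyOfFinitePresentation.iff_locallyOfFiniteType.mpr inferInstance
    letI : Z.Over (Spec (CommRingCat.of k)) := ⟨ι ≫ (X ↘ Spec (CommRingCat.of k))⟩
    haveI : IsProper (Z ↘ Spec (CommRingCat.of k)) :=
      inferInstanceAs (IsProper (ι ≫ (X ↘ Spec (CommRingCat.of k))))
    haveI : Smooth (Z ↘ Spec (CommRingCat.of k)) :=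
      inferInstanceAs (Smooth (ι ≫ (X ↘ Spec (CommRingCat.of k))))
    have hι : ι ≫ (X ↘ Spec (CommRingCat.of k)) = Z ↘ Spec (CommRingCat.of k) := rfl
    haveI := CurveRR.isNoetherian_of_proper k Z
    have hd1 : topologicalKrullDim Z ≤ 1 := ι.isClosedEmbedding.isEmbedding.topologicalKrullDim_le.trans hdim.le
    let P := Scheme.Modules.pullback ι
    let ρ : ∀ G : X.Modules, G.restrict ι ≅ P.obj G := fun G => (Scheme.Modules.restrictFunctorIsoPullback ι).app G
    have hsplit : ∀ (E : X.Modules) (n : ℕ),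
        Nonempty ((CohB1.tensorMod E (CohB1.tensorPow L n)).restrict ι ≅
          CohB1.tensorMod (P.obj E) (P.obj (CohB1.tensorPow L n))) := fun E n => by
      obtain ⟨a⟩ := TMul.nonempty_pullTensorIso ι E (CohB1.tensorPow L n)
      exact ⟨ρ _ ≪≫ a.symm⟩
    -- transfer of the two properties
    have fin : ∀ (E : X.Modules) (n : ℕ), FlatMod.IsFinLocFreeOfRank r E →
        Subsingleton (Coh.HH Z (CohB1.tensorMod (P.obj E) (P.obj (CohB1.tensorPow L n))) 1) →
        (∀ (N' : Z.Modules) (g : CohB1.tensorMod (P.obj E) (P.obj (CohB1.tensorPow L n)) ⟶ N'),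
          (∀ s, g.app ⊤ s = 0) → g = 0) →
        Subsingleton (Coh.HH X (piece (CohB1.tensorMod E (CohB1.tensorPow L n)) (U j)) 1) ∧
        ∀ (N' : (U j : Scheme.{u}).Modules)
          (g : (CohB1.tensorMod E (CohB1.tensorPow L n)).restrict (U j).ι ⟶ N'),
          (∀ s, g.app ⊤ s = 0) → g = 0 := by
      intro E n hE h1 h2
      obtain ⟨e⟩ := hsplit E n
      refine ⟨?_, fun N' g hg => ?_⟩
      · have hq : Coh.IsQCoh ((CohB1.tensorMod E (CohB1.tensorPow L n)).restrict ι) :=
          Groth.Agent.QC.isQCoh_of_iso e.symm (CurveRR.isCoh_tensor'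
            (CurveRR.isCoh_of_rank (CurveRR.Multi.isFinLocFreeOfRank_pullback ι hE))
            (CurveRR.isCoh_of_inv (PicLoc.isInvertible_pullback ι (TMul.isInvertible_tensorPow hL.1 n)))).1
        haveI := hq
        obtain ⟨a⟩ := CohFinite.hh_push_linear k ι hι _
          (CohQC.directAcyclic_of_isAffineHom ι ((CohB1.tensorMod E (CohB1.tensorPow L n)).restrict ι)) 1
        haveI : Subsingleton (Coh.HH Z ((CohB1.tensorMod E (CohB1.tensorPow L n)).restrict ι) 1) :=
          W7Hull.hh_subsingleton_of_retract e.inv e.hom e.hom_inv_id 1 h1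
        exact a.symm.toEquiv.subsingleton
      · have h := h2 N' (e.inv ≫ g) fun s => hg (e.inv.app ⊤ s)
        rwa [← comp_zero (f := e.inv) (Z := N'), cancel_epi] at h
    by_cases hd : topologicalKrullDim Z = 1
    · have hX := W7Slope.regCurve_of_smooth (k := k) hd
      have hLZ : CohB1.IsAmple (P.obj L) := TMul.isAmple_pullback_of_isAffineHom ι hL
      have hdL : 0 < Curv2.deg k Z (P.obj L) 1 := CurveRR.deg_pos_of_isAmple (k := k) hd hLZ
      set dL := Curv2.deg k Z (P.obj L) 1
      set χZ := Curv2.euler k Z (Coh.structureModule Z)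
      obtain ⟨n₀, hn₀⟩ := exists_nat_gt
        ((2 * (Curv2.genus k Z : ℚ) - 1 - (C * (dL : ℚ) - (χZ : ℚ))) / (dL : ℚ))
      refine ⟨n₀, fun n hn E hE hQ => ?_⟩
      have hEP := CurveRR.Multi.isFinLocFreeOfRank_pullback ι hE
      have hC : ∀ (Q : Z.Modules) (p : P.obj E ⟶ Q), Epi p → PicF.IsInvertible Q →
          C * (dL : ℚ) - (χZ : ℚ) ≤ (Curv2.deg k Z Q 1 : ℚ) := by
        intro Q p hp hQi
        have hQ1 := CurveRR.isFinLocFreeOfRank_one hQi
        have hQf : FlatMod.IsFinLocFree Q := fun x => let ⟨W, h⟩ := hQ1 x; ⟨W, 1, h⟩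
        have hQc := CurveRR.isCoh_of_inv hQi
        let Q' := (Scheme.Modules.pushforward ι).obj Q
        have hQ' : FlatMod.IsFinLocFree Q' := ResDesc.isFinLocFree_push (f := ι) hQf
        haveI := hp
        haveI hlift := isIso_lift U hdj hc E
        haveI : Epi (toPiece E (U j)) := by
          rw [← biproduct.lift_π (fun i => toPiece E (U i)) j]
          exact epi_comp _ _
        haveI : Epi ((Scheme.Modules.pushforward ι).map ((ρ E).hom ≫ p)) :=
          ResDesc.epi_push (f := ι) (Groth.Agent.QC.isQCoh_of_iso (ρ E).symm (CurveRR.isCoh_of_rank hEP).1) hQc.1 _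
        let q : E ⟶ Q' := toPiece E (U j) ≫ (Scheme.Modules.pushforward ι).map ((ρ E).hom ≫ p)
        have hLi := hL.1
        haveI := W7Hull.isIso_projMap_of_invertible ι Q hLi
        have hQL : Coh.IsCoh (CohB1.tensorMod Q (P.obj L)) :=
          CurveRR.isCoh_tensor' hQc (CurveRR.isCoh_of_inv hLZ.1)
        have e₁ : Curv2.euler k X (CohB1.tensorMod Q' L) = Curv2.euler k Z (CohB1.tensorMod Q (P.obj L)) := by
          rw [CurveRR.euler_eq_of_iso (asIso (CohFinite.projMap ι Q L))]
          exact EulerMult.euler_push_affine ι hι _ hQL.1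
        have e₂ : Curv2.euler k X Q' = Curv2.euler k Z Q := EulerMult.euler_push_affine ι hι _ hQc.1
        have e₃ := CurveRR.deg_tensor_inv (k := k) hd1 hQi hLZ.1
        simp only [Curv2.deg] at e₃
        have hα : Curv2.euler k X (CohB1.tensorMod Q' L) - Curv2.euler k X Q' = dL := by
          rw [e₁, e₂]
          simp only [dL, Curv2.deg]
          linarith
        have h := hQ Q' q (epi_comp _ _) hQ' (hα ▸ hdL)
        rw [hα, e₂, le_div_iff₀ (by exact_mod_cast hdL)] at h
        simp only [Curv2.deg, χZ]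
        push_cast
        linarith
      have hM := PicLoc.isInvertible_pullback ι (TMul.isInvertible_tensorPow hL.1 n)
      have hdM : Curv2.deg k Z (P.obj (CohB1.tensorPow L n)) 1 = n * dL := by
        obtain ⟨e⟩ := Groth.Agent.S19175.nonempty_pullback_pow ι L n
        rw [W7Slope.deg_iso (k := k) e 1]
        exact CurveRR.deg_tensorPow hd1 hLZ.1 n
      have hlt : 2 * (Curv2.genus k Z : ℚ) - 1 <
          (C * (dL : ℚ) - (χZ : ℚ)) + (Curv2.deg k Z (P.obj (CohB1.tensorPow L n)) 1 : ℚ) := by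
        rw [hdM]
        have hn' : (n₀ : ℚ) ≤ n := by exact_mod_cast hn
        have h := (div_lt_iff₀ (by exact_mod_cast hdL)).1 (hn₀.trans_le hn')
        push_cast
        linarith
      obtain ⟨h1, h2⟩ := vanish_of_bound k hd hX hEP hM hC hlt
      exact fin E n hE h1 fun N' g hg => eq_zero_of_gg h2 g hg
    · refine ⟨0, fun n _ E hE _ => ?_⟩
      have hd0 : topologicalKrullDim Z ≤ 0 := by
        generalize topologicalKrullDim Z = d at hd1 hd
        match d with
        | ⊥ => exact bot_le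
        | (a : ℕ∞) =>
          have h1 : a ≤ 1 := WithBot.coe_le_coe.mp hd1
          refine WithBot.coe_le_coe.mpr (le_of_not_gt fun ha => hd ?_)
          rw [le_antisymm h1 (Order.one_le_iff_pos.mpr ha)]
          rfl
      refine fin E n hE (Groth.Agent.S0458.result (X := Z.toPresheafedSpace.carrier) 0 hd0 (Coh.toAb _) 1 zero_lt_one)
        fun N' g hg => ?_
      haveI := subsingleton_of_dim_le_zero (Z := Z) hd0
      have hT := W7Slope.rank_tensor_inv (CurveRR.Multi.isFinLocFreeOfRank_pullback ι hE)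
        (PicLoc.isInvertible_pullback ι (TMul.isInvertible_tensorPow hL.1 n))
      obtain ⟨W, e, hW, he⟩ := CurveRR.exists_frame hT (genericPoint Z)
      obtain rfl : W = ⊤ := top_le_iff.mp fun y _ => (Subsingleton.elim (genericPoint Z) y) ▸ hW
      refine Scheme.Modules.hom_ext _ _ fun V => ?_
      ext t
      obtain ⟨c, rfl⟩ := he.comb_surjective (le_top : V ≤ ⊤) t
      rw [map_sum]
      refine (Finset.sum_eq_zero fun i _ => ?_).trans rfl
      rw [Scheme.Modules.Hom.app_smul, ← app_res, hg, map_zero, smul_zero]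
  choose n₀ hn₀ using key
  refine ⟨Finset.univ.sup n₀, fun n hn E hE hQ => ?_⟩
  have h := fun j => hn₀ j n ((Finset.le_sup (Finset.mem_univ j)).trans hn) E hE hQ
  exact ⟨subsingleton_hh_of_pieces U k hdj hc _ 1 fun j => (h j).1,
    gg_of_kill fun N' g hg => hom_eq_zero_of_global U hdj hc g hg fun j => (h j).2⟩

/-- `α(E) = r · deg L`. -/
theorem alpha_eq (hdim : topologicalKrullDim X ≤ 1) {L : X.Modules} (hL : PicF.IsInvertible L) {E : X.Modules}
    {r : ℕ} (hE : FlatMod.IsFinLocFreeOfRank r E) :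
    Curv2.euler k X (CohB1.tensorMod E L) - Curv2.euler k X E = r * Curv2.deg k X L 1 := by
  have h := CurveRR.Multi.deg_tensor k hdim r 1 E L hE (CurveRR.isFinLocFreeOfRank_one hL)
  simp only [Curv2.deg] at h ⊢
  push_cast at h ⊢
  linarith

/-- Boundedness is a lower bound on the minimal slope. -/
theorem bounded_iff (hdim : topologicalKrullDim X = 1) {L : X.Modules} (hL : CohB1.IsAmple L) (r : ℕ) (d : ℤ)
    (S : Set X.Modules) (hS : ∀ E ∈ S, FlatMod.IsFinLocFreeOfRank r E ∧ Curv2.deg k X E r = d) :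
    (∃ n₀ : ℕ, ∀ n : ℕ, n₀ ≤ n → ∀ E ∈ S, Subsingleton (Coh.HH X (CohB1.tensorMod E (CohB1.tensorPow L n)) 1) ∧
      Curv2.IsGloballyGenerated (CohB1.tensorMod E (CohB1.tensorPow L n))) ↔
    (∃ C : ℤ, ∀ E ∈ S, ∀ (Q : X.Modules) (p : E ⟶ Q), Epi p → FlatMod.IsFinLocFree Q →
      0 < Curv2.euler k X (CohB1.tensorMod Q L) - Curv2.euler k X Q →
      (C : ℚ) ≤ (Curv2.euler k X Q : ℚ) / ((Curv2.euler k X (CohB1.tensorMod Q L) - Curv2.euler k X Q : ℤ) : ℚ) -
        (Curv2.euler k X E : ℚ) / ((Curv2.euler k X (CohB1.tensorMod E L) - Curv2.euler k X E : ℤ) : ℚ)) := by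
  haveI := CurveRR.isNoetherian_of_proper k X
  set K : ℚ := ((d + r * Curv2.euler k X (Coh.structureModule X) : ℤ) : ℚ) / ((r * Curv2.deg k X L 1 : ℤ) : ℚ)
  have hK : ∀ E ∈ S, (Curv2.euler k X E : ℚ) /
      ((Curv2.euler k X (CohB1.tensorMod E L) - Curv2.euler k X E : ℤ) : ℚ) = K := fun E hE => by
    obtain ⟨hr, hd⟩ := hS E hE
    rw [alpha_eq k hdim.le hL.1 hr]
    simp only [Curv2.deg] at hd
    rw [show Curv2.euler k X E = d + r * Curv2.euler k X (Coh.structureModule X) by linarith]
  constructor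
  · rintro ⟨n₀, h⟩
    refine ⟨⌊-(n₀ : ℚ) - K⌋, fun E hE Q p hp hQf hα => ?_⟩
    rw [hK E hE]
    have hQc : Coh.IsCoh Q := K0Coh.isCoh_of_isFinLocFree hQf
    have h1 := quotient_bound k hdim.le hL.1 n₀ hQc p (h n₀ le_rfl E hE).1 hα
    have h2 := Int.floor_le (-(n₀ : ℚ) - K)
    linarith
  · rintro ⟨C, h⟩
    obtain ⟨n₀, hn₀⟩ := bounded_of_bound k hdim hL r ((C : ℚ) + K)
    refine ⟨n₀, fun n hn E hE => hn₀ n hn E (hS E hE).1 fun Q p hp hQf hα => ?_⟩
    have h1 := h E hE Q p hp hQf hα
    rw [hK E hE] at h1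
    linarith

end Groth.Agent.CurveComps

end
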